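import Groth.Agent.Decay.Universal

set_option autoImplicit false
set_option linter.style.haveILetI false
universe u

namespace Groth.Agent.Decay

open W4c5adicflatcompl TensorProduct

theorem completion_hom_ext {A : Type u} [CommRing A] [IsNoetherianRing A] {I : Ideal A} {X C : Type u}
    [AddCommGroup X] [Module A X] [AddCommGroup C] [Module A C] [IsHausdorff I C]
    {φ φ' : AdicCompletion I X →ₗ[A] C} (h : ∀ y, φ (AdicCompletion.of I X y) = φ' (AdicCompletion.of I X y)) :
    φ = φ' := by
  refine LinearMap.ext fun x => eq_of_forall_sub_mem I fun n => ?_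
  obtain ⟨y, hy⟩ := exists_sub_of_mem (I := I) n x
  have h2 := Submodule.sub_mem _ (map_mem_pow I φ hy) (map_mem_pow I φ' hy)
  simpa [h] using h2

theorem isAdicFree_baseChange_decaying {A B : Type u} [CommRing A] [CommRing B] [Algebra A B]
    [IsNoetherianRing A] [IsNoetherianRing B] (I : Ideal A) (J : Ideal B)
    (hIJ : I.map (algebraMap A B) ≤ J) (Z : Type u) :
    IsAdicFree J (AdicCompletion J (B ⊗[A] decaying I Z (AdicCompletion I A))) := by
  classical
  let q : ∀ n, (A ⧸ (I ^ n • ⊤ : Submodule A A)) →ₗ[A] B ⧸ (J ^ n • ⊤ : Submodule B B) := fun n =>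
    Submodule.liftQ _ ((Submodule.mkQ (J ^ n • ⊤ : Submodule B B)).restrictScalars A ∘ₗ Algebra.linearMap A B)
      fun a ha => by
        rw [LinearMap.mem_ker]
        refine (Submodule.Quotient.mk_eq_zero _).mpr ?_
        have h1 := Ideal.mem_map_of_mem (algebraMap A B) (show a ∈ I ^ n by simpa using ha)
        rw [Ideal.map_pow] at h1
        simpa using Ideal.pow_right_mono hIJ n h1
  let σ : AdicCompletion I A →ₗ[A] AdicCompletion J B :=
    { toFun := fun x => ⟨fun n => q n (x.val n), fun {m n} hmn => by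
        obtain ⟨a, ha⟩ := Submodule.Quotient.mk_surjective _ (x.val n)
        show AdicCompletion.transitionMap J B hmn (q n (x.val n)) = q m (x.val m)
        rw [← x.2 hmn, ← ha]
        rfl⟩
      map_add' := fun x y => AdicCompletion.ext fun n => (q n).map_add _ _
      map_smul' := fun r x => AdicCompletion.ext fun n => (q n).map_smul r _ }
  have hσ : σ 1 = 1 := AdicCompletion.ext fun n => by
    show q n (Submodule.Quotient.mk 1) = Submodule.Quotient.mk 1
    exact congrArg Submodule.Quotient.mk (map_one (algebraMap A B))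
  have hσd : ∀ n (x : AdicCompletion I A), x ∈ (I ^ n • ⊤ : Submodule A (AdicCompletion I A)) →
      σ x ∈ (J ^ n • ⊤ : Submodule B (AdicCompletion J B)) := fun n x hx => by
    rw [mem_pow_smul_iff]
    show q n (x.val n) = 0
    rw [(mem_pow_smul_iff n x).mp hx, map_zero]
  let θ : decaying I Z (AdicCompletion I A) →ₗ[A] decaying J Z (AdicCompletion J B) :=
    { toFun := fun g => ⟨fun z => σ ((g : Z → AdicCompletion I A) z),
        fun n => (g.2 n).subset fun _ hz h => hz (hσd n _ h)⟩
      map_add' := fun g g' => Subtype.ext (funext fun z => σ.map_add _ _)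
      map_smul' := fun r g => Subtype.ext (funext fun z => σ.map_smul r _) }
  haveI : IsAdicComplete J (decaying J Z (AdicCompletion J B)) := isAdicComplete_decaying (fg J)
  let Θ : AdicCompletion J (B ⊗[A] decaying I Z (AdicCompletion I A)) →ₗ[B] decaying J Z (AdicCompletion J B) :=
    (AdicCompletion.ofLinearEquiv J (decaying J Z (AdicCompletion J B))).symm.toLinearMap ∘ₗ
      (AdicCompletion.map J (θ.liftBaseChange B)).restrictScalars B
  have hΘ : ∀ y, Θ (AdicCompletion.of J _ y) = θ.liftBaseChange B y := fun y => by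
    simp [Θ, AdicCompletion.map_of]
  obtain ⟨Ψ, hΨ⟩ := exists_hom (I := J) (Z := Z) fun z =>
    AdicCompletion.of J (B ⊗[A] decaying I Z (AdicCompletion I A)) (1 ⊗ₜ single I z 1)
  have hθ : ∀ z, θ (single I z 1) = single J z 1 := fun z => Subtype.ext <| funext fun w => by
    by_cases hw : w = z
    · subst hw; simp [θ, hσ]
    · simp [θ, hw]
  have h1 : Θ ∘ₗ Ψ = LinearMap.id := hom_ext fun z => by simp [hΨ, hΘ, hθ]
  have h2 : Ψ ∘ₗ Θ = LinearMap.id := by
    refine completion_hom_ext fun y => ?_
    haveI : IsHausdorff I (AdicCompletion J (B ⊗[A] decaying I Z (AdicCompletion I A))) := IsHausdorff.of_map (J := J) hIJ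
    have key : Ψ.restrictScalars A ∘ₗ θ = (AdicCompletion.of J _).restrictScalars A ∘ₗ
        (TensorProduct.mk A B (decaying I Z (AdicCompletion I A)) 1) := hom_ext fun z => by simp [hθ, hΨ]
    induction y using TensorProduct.induction_on with
    | zero => simp
    | tmul b g =>
      have h3 := LinearMap.congr_fun key g
      simp only [LinearMap.comp_apply, LinearMap.restrictScalars_apply, TensorProduct.mk_apply] at h3
      simp only [LinearMap.comp_apply, hΘ, LinearMap.liftBaseChange_tmul, map_smul, LinearMap.id_apply, h3]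
      rw [← map_smul, TensorProduct.smul_tmul', smul_eq_mul, mul_one]
    | add a b ha hb => simp only [map_add] at *; rw [ha, hb]
  exact ⟨Z, ⟨LinearEquiv.ofLinearMap Θ Ψ (by simpa using h1) (by simpa using h2)⟩⟩

theorem isAdicFree_baseChange {A B : Type u} [CommRing A] [CommRing B] [Algebra A B]
    [IsNoetherianRing A] [IsNoetherianRing B] (I : Ideal A) (J : Ideal B)
    (hIJ : I.map (algebraMap A B) ≤ J) (P : Type u) [AddCommGroup P] [Module A P] (hP : IsAdicFree I P) :
    IsAdicFree J (AdicCompletion J (B ⊗[A] P)) := by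
  obtain ⟨Z, ⟨e⟩⟩ := hP
  obtain ⟨Z', ⟨f⟩⟩ := isAdicFree_baseChange_decaying I J hIJ Z
  let E := LinearEquiv.baseChange A B _ _ e
  have hr : ∀ {X Y : Type u} [AddCommGroup X] [Module B X] [AddCommGroup Y] [Module B Y] (φ : X →ₗ[B] Y) (ψ : Y →ₗ[B] X),
      ψ ∘ₗ φ = LinearMap.id → ∀ x : AdicCompletion J X, AdicCompletion.map J ψ (AdicCompletion.map J φ x) = x :=
    fun φ ψ h x => by rw [AdicCompletion.map_comp_apply, h, AdicCompletion.map_id]; rfl
  let G : AdicCompletion J (B ⊗[A] P) ≃ₗ[B] AdicCompletion J (B ⊗[A] decaying I Z (AdicCompletion I A)) :=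
    LinearEquiv.ofLinearMap ((AdicCompletion.map J E.toLinearMap).restrictScalars B)
      ((AdicCompletion.map J E.symm.toLinearMap).restrictScalars B)
      (LinearMap.ext fun x => hr _ _ (by ext; simp) x) (LinearMap.ext fun x => hr _ _ (by ext; simp) x)
  exact ⟨Z', ⟨G.trans f⟩⟩

end Groth.Agent.Decay
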