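import Mathlib
import Groth.Prelude.Def_W4c5adicflatcomplDec

set_option autoImplicit false
set_option linter.style.haveILetI false
universe u v w

namespace Groth.Agent.Decay

open W4c5adicflatcompl

variable {A : Type u} [CommRing A] (I : Ideal A)

section Coord

variable {M : Type w} [AddCommGroup M] [Module A M]

theorem smul_mem_pow {n : ℕ} {a : A} (ha : a ∈ (I ^ n • ⊤ : Submodule A A)) (x : M) :
    a • x ∈ (I ^ n • ⊤ : Submodule A M) :=
  Submodule.smul_mem_smul (by simpa using ha) Submodule.mem_top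

theorem pow_smul_top_mono {m n : ℕ} (h : m ≤ n) :
    (I ^ n • ⊤ : Submodule A M) ≤ I ^ m • ⊤ :=
  Submodule.smul_mono_left (Ideal.pow_le_pow_right h)

theorem map_mem_pow {N : Type*} [AddCommGroup N] [Module A N] (φ : M →ₗ[A] N) {n : ℕ} {x : M}
    (hx : x ∈ (I ^ n • ⊤ : Submodule A M)) : φ x ∈ (I ^ n • ⊤ : Submodule A N) := by
  have h1 := Submodule.mem_map_of_mem (f := φ) hx
  rw [Submodule.map_smul''] at h1
  exact Submodule.smul_mono le_rfl le_top h1

theorem eq_zero_of_forall_mem [IsHausdorff I M] {x : M} (h : ∀ n, x ∈ (I ^ n • ⊤ : Submodule A M)) : x = 0 :=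
  IsHausdorff.haus' x fun n => SModEq.zero.mpr (h n)

theorem eq_of_forall_sub_mem [IsHausdorff I M] {x y : M}
    (h : ∀ n, x - y ∈ (I ^ n • ⊤ : Submodule A M)) : x = y :=
  sub_eq_zero.mp (eq_zero_of_forall_mem I h)

/-- `m` is the `I`-adic sum of the family `f`. -/
def HasSum {Z : Type v} (f : Z → M) (m : M) : Prop :=
  ∀ n : ℕ, ∃ S : Finset Z, (∀ z, z ∉ S → f z ∈ (I ^ n • ⊤ : Submodule A M)) ∧
    m - (∑ z ∈ S, f z) ∈ (I ^ n • ⊤ : Submodule A M)

variable {I} {Z : Type v} {f g : Z → M} {m m' : M}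

theorem sum_congr_mod {n : ℕ} {S T : Finset Z} (hS : ∀ z, z ∉ S → f z ∈ (I ^ n • ⊤ : Submodule A M))
    (hT : ∀ z, z ∉ T → f z ∈ (I ^ n • ⊤ : Submodule A M)) :
    (∑ z ∈ S, f z) - (∑ z ∈ T, f z) ∈ (I ^ n • ⊤ : Submodule A M) := by
  classical
  have h : ∀ {S T : Finset Z}, S ⊆ T → (∀ z, z ∉ S → f z ∈ (I ^ n • ⊤ : Submodule A M)) →
      (∑ z ∈ T, f z) - (∑ z ∈ S, f z) ∈ (I ^ n • ⊤ : Submodule A M) := fun {S T} hst hS => by
    rw [← Finset.sum_sdiff hst, add_sub_cancel_right]
    exact Submodule.sum_mem _ fun z hz => hS z (Finset.mem_sdiff.mp hz).2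
  have h1 := h (Finset.subset_union_left (s₂ := T)) hS
  have h2 := h (Finset.subset_union_right (s₁ := S)) hT
  simpa using Submodule.sub_mem _ h2 h1

theorem HasSum.sub_mem (h : HasSum I f m) {n : ℕ} {S : Finset Z}
    (hS : ∀ z, z ∉ S → f z ∈ (I ^ n • ⊤ : Submodule A M)) :
    m - (∑ z ∈ S, f z) ∈ (I ^ n • ⊤ : Submodule A M) := by
  obtain ⟨T, hT, hm⟩ := h n
  have := Submodule.add_mem _ hm (sum_congr_mod hT hS)
  simpa using this

theorem HasSum.mem_decaying (h : HasSum I f m) : f ∈ decaying I Z M := fun n => by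
  obtain ⟨S, hS, -⟩ := h n
  refine S.finite_toSet.subset fun z hz => ?_
  by_contra hzS
  exact hz (hS z hzS)

theorem HasSum.unique [IsHausdorff I M] (h : HasSum I f m) (h' : HasSum I f m') : m = m' := by
  refine eq_of_forall_sub_mem I fun n => ?_
  obtain ⟨S, hS, hm⟩ := h n
  simpa using Submodule.sub_mem _ hm (h'.sub_mem hS)

theorem HasSum.add (h : HasSum I f m) (h' : HasSum I g m') : HasSum I (f + g) (m + m') := by
  classical
  intro n
  obtain ⟨S, hS, -⟩ := h n
  obtain ⟨T, hT, -⟩ := h' n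
  have hS' : ∀ z, z ∉ S ∪ T → f z ∈ (I ^ n • ⊤ : Submodule A M) := fun z hz => hS z (by simp_all)
  have hT' : ∀ z, z ∉ S ∪ T → g z ∈ (I ^ n • ⊤ : Submodule A M) := fun z hz => hT z (by simp_all)
  refine ⟨S ∪ T, fun z hz => Submodule.add_mem _ (hS' z hz) (hT' z hz), ?_⟩
  simp only [Pi.add_apply, Finset.sum_add_distrib]
  rw [add_sub_add_comm]
  exact Submodule.add_mem _ (h.sub_mem hS') (h'.sub_mem hT')

theorem HasSum.smul (h : HasSum I f m) (a : A) : HasSum I (a • f) (a • m) := fun n => by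
  obtain ⟨S, hS, hm⟩ := h n
  refine ⟨S, fun z hz => Submodule.smul_mem _ a (hS z hz), ?_⟩
  simp only [Pi.smul_apply, ← Finset.smul_sum, ← smul_sub]
  exact Submodule.smul_mem _ a hm

theorem exists_hasSum [IsPrecomplete I M] (hf : f ∈ decaying I Z M) : ∃ m, HasSum I f m := by
  let S : ℕ → Finset Z := fun n => (hf n).toFinset
  have hS : ∀ n z, z ∉ S n → f z ∈ (I ^ n • ⊤ : Submodule A M) := fun n z hz => by simpa [S] using hz
  obtain ⟨L, hL⟩ := IsPrecomplete.prec (inferInstance : IsPrecomplete I M) (f := fun n => ∑ z ∈ S n, f z)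
    (fun {m n} hmn => SModEq.sub_mem.mpr (sum_congr_mod (hS m) fun z hz => pow_smul_top_mono I hmn (hS n z hz)))
  refine ⟨L, fun n => ⟨S n, hS n, ?_⟩⟩
  exact SModEq.sub_mem.mp (hL n).symm

theorem mem_decaying_iff_exists_hasSum [IsPrecomplete I M] :
    f ∈ decaying I Z M ↔ ∃ m, HasSum I f m :=
  ⟨exists_hasSum, fun ⟨_, h⟩ => h.mem_decaying⟩

theorem smul_right_mem_decaying {g : Z → A} (hg : g ∈ decaying I Z A) (f : Z → M) :
    (fun z => g z • f z) ∈ decaying I Z M := fun n =>
  (hg n).subset fun _ hz h => hz (smul_mem_pow I h _)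

/-- The linear map sending a decaying family of coefficients `g` to the adic sum of `g z • f z`. -/
theorem exists_sumMap [IsAdicComplete I M] (f : Z → M) :
    ∃ φ : decaying I Z A →ₗ[A] M, ∀ g : decaying I Z A, HasSum I (fun z => (g : Z → A) z • f z) (φ g) := by
  choose φ hφ using fun g : decaying I Z A => exists_hasSum (I := I) (smul_right_mem_decaying g.2 f)
  refine ⟨{ toFun := φ, map_add' := fun a b => ?_, map_smul' := fun r a => ?_ }, hφ⟩
  · refine (hφ (a + b)).unique ?_
    convert! (hφ a).add (hφ b) using 1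
    funext z; simp [add_smul]
  · refine (hφ (r • a)).unique ?_
    convert! (hφ a).smul r using 1
    funext z; simp [mul_smul]

/-- An isomorphism of modules induces one of decaying functions. -/
def decayingCongr (I : Ideal A) {M : Type w} [AddCommGroup M] [Module A M] {N : Type*} [AddCommGroup N] [Module A N]
    {Z : Type v} (e : M ≃ₗ[A] N) : decaying I Z M ≃ₗ[A] decaying I Z N where
  toFun g := ⟨fun z => e ((g : Z → M) z), fun k => (g.2 k).subset fun _ hz h => hz (map_mem_pow I e.toLinearMap h)⟩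
  invFun g := ⟨fun z => e.symm ((g : Z → N) z),
    fun k => (g.2 k).subset fun _ hz h => hz (map_mem_pow I e.symm.toLinearMap h)⟩
  map_add' g g' := Subtype.ext <| funext fun z => e.map_add _ _
  map_smul' r g := Subtype.ext <| funext fun z => e.map_smul r _
  left_inv g := Subtype.ext <| funext fun z => e.symm_apply_apply _
  right_inv g := Subtype.ext <| funext fun z => e.apply_symm_apply _

end Coord

theorem isHausdorff_decaying (Z : Type v) (M : Type w) [AddCommGroup M] [Module A M] [IsHausdorff I M] :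
    IsHausdorff I (decaying I Z M) := ⟨fun x hx => Subtype.ext <| funext fun z => by
  refine eq_zero_of_forall_mem I fun n => ?_
  exact map_mem_pow I ((LinearMap.proj z).comp (decaying I Z M).subtype) (SModEq.zero.mp (hx n))⟩

/-- Successive approximation: generation modulo `I` gives adic generation. -/
theorem exists_decaying_coeff [IsAdicComplete I A] {M : Type w} [AddCommGroup M] [Module A M] {Z : Type v}
    (m : Z → M) (h : Submodule.span A (Set.range m) ⊔ I • ⊤ = ⊤) (x : M) :
    ∃ g : Z → A, g ∈ decaying I Z A ∧ ∀ n : ℕ, ∃ S : Finset Z,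
      (∀ z, z ∉ S → g z • m z ∈ (I ^ n • ⊤ : Submodule A M)) ∧
      x - (∑ z ∈ S, g z • m z) ∈ (I ^ n • ⊤ : Submodule A M) := by
  classical
  have key : ∀ (n : ℕ) (y : M), y ∈ (I ^ n • ⊤ : Submodule A M) →
      ∃ c : Z →₀ A, (∀ z, c z ∈ I ^ n) ∧ y - Finsupp.linearCombination A m c ∈ (I ^ (n + 1) • ⊤ : Submodule A M) := by
    intro n y hy
    rw [← h, Submodule.smul_sup, ← Submodule.mul_smul, ← pow_succ] at hy
    obtain ⟨a, ha, b, hb, rfl⟩ := Submodule.mem_sup.mp hy
    obtain ⟨c, hc, rfl⟩ := (Submodule.mem_ideal_smul_span_iff_exists_sum (I ^ n) m a).mp ha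
    refine ⟨c, hc, ?_⟩
    rw [Finsupp.linearCombination_apply, add_sub_cancel_left]
    exact hb
  choose! c hc hc' using key
  let r : ℕ → M := fun n => Nat.rec x (fun k y => y - Finsupp.linearCombination A m (c k y)) n
  have hr : ∀ n, r n ∈ (I ^ n • ⊤ : Submodule A M) := by
    intro n
    induction n with
    | zero => simp
    | succ n ih => exact hc' n (r n) ih
  let T : ℕ → Finset Z := fun N => (Finset.range N).biUnion fun n => (c n (r n)).support
  have hdec : ∀ z, (fun n => c n (r n) z) ∈ decaying I ℕ A := fun z N =>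
    (Finset.range N).finite_toSet.subset fun n hn => by
      by_contra hN
      simp only [Finset.coe_range, Set.mem_Iio, not_lt] at hN
      exact hn (pow_smul_top_mono I hN (by simpa using hc n (r n) (hr n) z))
  choose g hg using fun z => exists_hasSum (I := I) (hdec z)
  have htail : ∀ z N, ∀ n, n ∉ Finset.range N → c n (r n) z ∈ (I ^ N • ⊤ : Submodule A A) := fun z N n hn =>
    pow_smul_top_mono I (by simpa using hn) (by simpa using hc n (r n) (hr n) z)
  have hgN : ∀ z N, g z - ∑ n ∈ Finset.range N, c n (r n) z ∈ (I ^ N • ⊤ : Submodule A A) :=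
    fun z N => (hg z).sub_mem (htail z N)
  have hsmall : ∀ N z, z ∉ T N → g z ∈ (I ^ N • ⊤ : Submodule A A) := by
    intro N z hz
    have h0 : ∑ n ∈ Finset.range N, c n (r n) z = 0 := Finset.sum_eq_zero fun n hn => by
      by_contra hne
      exact hz (Finset.mem_biUnion.mpr ⟨n, hn, Finsupp.mem_support_iff.mpr hne⟩)
    simpa [h0] using hgN z N
  refine ⟨g, fun N => (T N).finite_toSet.subset fun z hz => by by_contra hzT; exact hz (hsmall N z hzT),
    fun N => ⟨T N, fun z hz => smul_mem_pow I (hsmall N z hz) _, ?_⟩⟩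
  have htel : x - ∑ n ∈ Finset.range N, Finsupp.linearCombination A m (c n (r n)) = r N := by
    clear hsmall hgN htail hg
    induction N with
    | zero => simp [r]
    | succ N ih => rw [Finset.sum_range_succ, ← sub_sub, ih]
  have hsum : ∑ n ∈ Finset.range N, Finsupp.linearCombination A m (c n (r n)) =
      ∑ z ∈ T N, (∑ n ∈ Finset.range N, c n (r n) z) • m z := by
    simp only [Finset.sum_smul]
    rw [Finset.sum_comm (s := T N)]
    refine Finset.sum_congr rfl fun n hn => ?_
    rw [Finsupp.linearCombination_apply]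
    exact Finsupp.sum_of_support_subset _ (fun z hz => Finset.mem_biUnion.mpr ⟨n, hn, hz⟩) _ (by simp)
  have : x - ∑ z ∈ T N, g z • m z = r N - ∑ z ∈ T N, (g z - ∑ n ∈ Finset.range N, c n (r n) z) • m z := by
    rw [← htel, hsum, sub_sub, ← Finset.sum_add_distrib]
    exact congrArg (x - ·) (Finset.sum_congr rfl fun z _ => by rw [← add_smul, add_sub_cancel])
  rw [this]
  exact Submodule.sub_mem _ (hr N) (Submodule.sum_mem _ fun z _ => smul_mem_pow I (hgN z N) _)

end Groth.Agent.Decay
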