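import Groth.Agent.Decay.Basic

set_option autoImplicit false
set_option linter.style.haveILetI false
universe u v w

namespace Groth.Agent.Decay

open W4c5adicflatcompl

variable {A : Type u} [CommRing A] {I : Ideal A} {Z : Type v} {M : Type w} [AddCommGroup M] [Module A M]

/-- A decaying function with values in `I ^ n • M` lies in `I ^ n • decaying`. -/
theorem mem_pow_smul_decaying [IsHausdorff I M] (hI : I.FG) (n : ℕ) {f : decaying I Z M}
    (hf : ∀ z, (f : Z → M) z ∈ (I ^ n • ⊤ : Submodule A M)) :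
    f ∈ (I ^ n • ⊤ : Submodule A (decaying I Z M)) := by
  classical
  obtain ⟨r, a, ha⟩ := Submodule.fg_iff_exists_fin_generating_family.mp (hI.pow (n := n))
  have hdiv : ∀ (k : ℕ) (x : M), x ∈ (I ^ (k + n) • ⊤ : Submodule A M) →
      ∃ h : Fin r → M, (∀ j, h j ∈ (I ^ k • ⊤ : Submodule A M)) ∧ ∑ j, a j • h j = x := by
    intro k x hx
    rw [pow_add, mul_comm, Submodule.mul_smul] at hx
    refine Submodule.smul_induction_on hx (fun c hc y hy => ?_) fun x y ⟨h, hh, hx⟩ ⟨h', hh', hy⟩ =>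
      ⟨h + h', fun j => Submodule.add_mem _ (hh j) (hh' j), by simp [smul_add, Finset.sum_add_distrib, hx, hy]⟩
    rw [← ha, Submodule.mem_span_range_iff_exists_fun] at hc
    obtain ⟨b, hb⟩ := hc
    refine ⟨fun j => b j • y, fun j => Submodule.smul_mem _ _ hy, ?_⟩
    rw [← hb, Finset.sum_smul]
    exact Finset.sum_congr rfl fun j _ => by rw [smul_smul, smul_eq_mul, mul_comm]
  have hsel : ∀ z, ∃ h : Fin r → M, ∑ j, a j • h j = (f : Z → M) z ∧
      ∀ k, (f : Z → M) z ∈ (I ^ (k + n) • ⊤ : Submodule A M) → ∀ j, h j ∈ (I ^ k • ⊤ : Submodule A M) := by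
    intro z
    by_cases hall : ∀ k, (f : Z → M) z ∈ (I ^ (k + n) • ⊤ : Submodule A M)
    · have h0 : (f : Z → M) z = 0 := eq_zero_of_forall_mem I fun k => pow_smul_top_mono I (Nat.le_add_right k n) (hall k)
      exact ⟨0, by simp [h0], fun k _ j => Submodule.zero_mem _⟩
    · push Not at hall
      have hN : Nat.find hall ≠ 0 := fun h0 => Nat.find_spec hall (by rw [h0, zero_add]; exact hf z)
      obtain ⟨k₀, hk₀⟩ := Nat.exists_eq_succ_of_ne_zero hN
      obtain ⟨h, hh, hsum⟩ := hdiv k₀ _ (not_not.mp (Nat.find_min hall (show k₀ < Nat.find hall by omega)))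
      refine ⟨h, hsum, fun k hk j => pow_smul_top_mono I ?_ (hh j)⟩
      by_contra hlt
      exact Nat.find_spec hall (pow_smul_top_mono I (by omega) hk)
  choose h hsum hh using hsel
  have hdec : ∀ j, (fun z => h z j) ∈ decaying I Z M := fun j k =>
    (f.2 (k + n)).subset fun z hz hzk => hz (hh z k hzk j)
  have : f = ∑ j, a j • (⟨fun z => h z j, hdec j⟩ : decaying I Z M) :=
    Subtype.ext <| funext fun z => by simp [hsum z]
  rw [this]
  exact Submodule.sum_mem _ fun j _ => Submodule.smul_mem_smul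
    (ha ▸ Submodule.subset_span ⟨j, rfl⟩) Submodule.mem_top

theorem mem_pow_smul_decaying_iff [IsHausdorff I M] (hI : I.FG) (n : ℕ) (f : decaying I Z M) :
    f ∈ (I ^ n • ⊤ : Submodule A (decaying I Z M)) ↔ ∀ z, (f : Z → M) z ∈ (I ^ n • ⊤ : Submodule A M) :=
  ⟨fun hf z => map_mem_pow I ((LinearMap.proj z).comp (decaying I Z M).subtype) hf, mem_pow_smul_decaying hI n⟩

theorem isAdicComplete_decaying [IsAdicComplete I M] (hI : I.FG) : IsAdicComplete I (decaying I Z M) := by
  haveI := isHausdorff_decaying I Z M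
  refine { prec' := fun f hf => ?_ }
  have hz : ∀ z, ∃ L : M, ∀ n, (f n : Z → M) z ≡ L [SMOD (I ^ n • ⊤ : Submodule A M)] := fun z =>
    IsPrecomplete.prec inferInstance fun {m n} hmn => SModEq.sub_mem.mpr
      (map_mem_pow I ((LinearMap.proj z).comp (decaying I Z M).subtype) (SModEq.sub_mem.mp (hf hmn)))
  choose L hL using hz
  have hLdec : L ∈ decaying I Z M := fun n => ((f n).2 n).subset fun z hz hfz => hz <| by
    simpa using Submodule.sub_mem _ hfz (SModEq.sub_mem.mp (hL z n))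
  exact ⟨⟨L, hLdec⟩, fun n => SModEq.sub_mem.mpr (mem_pow_smul_decaying hI n fun z => SModEq.sub_mem.mp (hL z n))⟩

theorem eval_eq_of_sub_mem {x y : AdicCompletion I M} {n : ℕ}
    (h : x - y ∈ (I ^ n • ⊤ : Submodule A (AdicCompletion I M))) : x.val n = y.val n := by
  have := AdicCompletion.pow_smul_top_le_ker_eval (I := I) (M := M) n h
  rw [LinearMap.mem_ker, map_sub, sub_eq_zero] at this
  exact this

theorem mk_eq_iff {n : ℕ} {a b : M} :
    (Submodule.Quotient.mk a : M ⧸ (I ^ n • ⊤ : Submodule A M)) = Submodule.Quotient.mk b ↔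
      a - b ∈ (I ^ n • ⊤ : Submodule A M) := Submodule.Quotient.eq _

theorem exists_sub_of_mem [IsAdicComplete I (AdicCompletion I M)] (n : ℕ) (x : AdicCompletion I M) :
    ∃ y : M, x - AdicCompletion.of I M y ∈ (I ^ n • ⊤ : Submodule A (AdicCompletion I M)) := by
  obtain ⟨a, rfl⟩ := AdicCompletion.mk_surjective I M x
  obtain ⟨L, hL⟩ := IsPrecomplete.prec (inferInstance : IsPrecomplete I (AdicCompletion I M))
    (f := fun k => AdicCompletion.of I M (a k)) fun {p q} hpq => SModEq.sub_mem.mpr <| by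
      rw [← map_sub]
      exact map_mem_pow I (AdicCompletion.of I M) (SModEq.sub_mem.mp (a.2 hpq))
  have hLx : L = AdicCompletion.mk I M a := AdicCompletion.ext fun k =>
    (eval_eq_of_sub_mem (SModEq.sub_mem.mp (hL k))).symm
  exact ⟨a n, hLx ▸ SModEq.sub_mem.mp (hL n).symm⟩

theorem mem_pow_smul_iff_val_eq_zero
    (h : ∀ (n : ℕ) (x : AdicCompletion I M), ∃ y : M,
      x - AdicCompletion.of I M y ∈ (I ^ n • ⊤ : Submodule A (AdicCompletion I M)))
    (n : ℕ) (x : AdicCompletion I M) :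
    x ∈ (I ^ n • ⊤ : Submodule A (AdicCompletion I M)) ↔ x.val n = 0 := by
  refine ⟨fun hx => by simpa using eval_eq_of_sub_mem (y := 0) (by simpa using hx), fun hx => ?_⟩
  obtain ⟨y, hy⟩ := h n x
  have hy0 := eval_eq_of_sub_mem hy
  rw [hx, AdicCompletion.of_apply, eq_comm, Submodule.mkQ_apply, Submodule.Quotient.mk_eq_zero] at hy0
  simpa using Submodule.add_mem _ hy (map_mem_pow I (AdicCompletion.of I M) hy0)

theorem isAdicComplete_adicCompletion_iff :
    IsAdicComplete I (AdicCompletion I M) ↔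
      ∀ (n : ℕ) (x : AdicCompletion I M), ∃ y : M,
        x - AdicCompletion.of I M y ∈ (I ^ n • ⊤ : Submodule A (AdicCompletion I M)) := by
  refine ⟨fun h => exists_sub_of_mem, fun h => { prec' := fun f hf => ?_ }⟩
  refine ⟨⟨fun k => (f k).val k, fun {p q} hpq => ?_⟩, fun n => ?_⟩
  · rw [AdicCompletion.transitionMap_comp_eval_apply]
    exact (eval_eq_of_sub_mem (SModEq.sub_mem.mp (hf hpq))).symm
  · rw [SModEq.sub_mem, mem_pow_smul_iff_val_eq_zero h, AdicCompletion.val_sub_apply, sub_self]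

theorem mem_pow_smul_iff [IsAdicComplete I (AdicCompletion I M)] (n : ℕ) (x : AdicCompletion I M) :
    x ∈ (I ^ n • ⊤ : Submodule A (AdicCompletion I M)) ↔ x.val n = 0 :=
  mem_pow_smul_iff_val_eq_zero exists_sub_of_mem n x

theorem exists_retraction :
    ∃ ψ : AdicCompletion I (AdicCompletion I M) →ₗ[A] AdicCompletion I M,
      ψ ∘ₗ AdicCompletion.of I (AdicCompletion I M) = LinearMap.id := by
  let q : ∀ n, (AdicCompletion I M ⧸ (I ^ n • ⊤ : Submodule A (AdicCompletion I M))) →ₗ[A]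
      M ⧸ (I ^ n • ⊤ : Submodule A M) := fun n =>
    Submodule.liftQ _ (AdicCompletion.eval I M n) (AdicCompletion.pow_smul_top_le_ker_eval (I := I) (M := M) n)
  refine ⟨AdicCompletion.lift I (fun n => q n ∘ₗ AdicCompletion.eval I (AdicCompletion I M) n) ?_, ?_⟩
  · intro m n hle
    refine LinearMap.ext fun X => ?_
    have hX := X.2 hle
    obtain ⟨y, hy⟩ := Submodule.Quotient.mk_surjective _ (X.val n)
    simp only [LinearMap.comp_apply, AdicCompletion.eval_apply]
    rw [← hX, ← hy]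
    exact y.2 hle
  · ext x n
    rfl

end Groth.Agent.Decay
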