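import Groth.Agent.Decay.Complete

set_option autoImplicit false
set_option linter.style.haveILetI false
universe u v w

namespace Groth.Agent.Decay

open W4c5adicflatcompl TensorProduct

variable {A : Type u} [CommRing A] [IsNoetherianRing A] {I : Ideal A} [IsAdicComplete I A] {Z : Type v}

omit [IsAdicComplete I A] in
theorem mem_decaying_submodule_iff {M : Type w} [AddCommGroup M] [Module A M] [Module.Finite A M]
    (N : Submodule A M) (f : Z → N) :
    f ∈ decaying I Z N ↔ (fun z => (f z : M)) ∈ decaying I Z M := by
  refine ⟨fun hf n => (hf n).subset fun z hz h => hz (map_mem_pow I N.subtype h), fun hf n => ?_⟩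
  obtain ⟨k, hk⟩ := Ideal.exists_pow_inf_eq_pow_smul I N
  refine (hf (n + k)).subset fun z hz h => hz ?_
  have h1 : (f z : M) ∈ (I ^ (n + k) • ⊤ ⊓ N : Submodule A M) := ⟨h, (f z).2⟩
  rw [hk (n + k) (Nat.le_add_left k n), Nat.add_sub_cancel] at h1
  have h2 : (f z : M) ∈ (I ^ n • N : Submodule A M) := Submodule.smul_mono le_rfl inf_le_right h1
  have e : (I ^ n • ⊤ : Submodule A N).map N.subtype = I ^ n • N := by
    rw [Submodule.map_smul'', Submodule.map_top, Submodule.range_subtype]
  rw [← e] at h2
  obtain ⟨y, hy, hyz⟩ := h2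
  rwa [← Subtype.ext (show (y : M) = f z from hyz)]

theorem exists_decaying_lift {M : Type*} {M'' : Type*} [AddCommGroup M] [Module A M] [Module.Finite A M]
    [AddCommGroup M''] [Module A M''] (φ : M →ₗ[A] M'') (hφ : Function.Surjective φ) (g : Z → M'')
    (hg : g ∈ decaying I Z M'') : ∃ f : Z → M, f ∈ decaying I Z M ∧ ∀ z, φ (f z) = g z := by
  classical
  haveI : Module.Finite A M'' := Module.Finite.of_surjective φ hφ
  haveI : IsHausdorff I M'' := IsHausdorff.of_le_jacobson I M'' (IsAdicComplete.le_jacobson_bot I)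
  have hlift : ∀ (k : ℕ) (y : M''), y ∈ (I ^ k • ⊤ : Submodule A M'') →
      ∃ x ∈ (I ^ k • ⊤ : Submodule A M), φ x = y := fun k y hy => by
    rw [← LinearMap.range_eq_top.mpr hφ, ← Submodule.map_top, ← Submodule.map_smul''] at hy
    obtain ⟨x, hx, rfl⟩ := hy
    exact ⟨x, hx, rfl⟩
  have hsel : ∀ z, ∃ x : M, φ x = g z ∧
      ∀ k, g z ∈ (I ^ k • ⊤ : Submodule A M'') → x ∈ (I ^ k • ⊤ : Submodule A M) := by
    intro z
    by_cases hall : ∀ k, g z ∈ (I ^ k • ⊤ : Submodule A M'')
    · exact ⟨0, by rw [map_zero, eq_zero_of_forall_mem I hall], fun k _ => Submodule.zero_mem _⟩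
    · push Not at hall
      have hN : Nat.find hall ≠ 0 := fun h0 => Nat.find_spec hall (by rw [h0]; simp)
      obtain ⟨k₀, hk₀⟩ := Nat.exists_eq_succ_of_ne_zero hN
      obtain ⟨x, hx, hxz⟩ := hlift k₀ _ (not_not.mp (Nat.find_min hall (show k₀ < Nat.find hall by omega)))
      refine ⟨x, hxz, fun k hk => pow_smul_top_mono I ?_ hx⟩
      by_contra hlt
      exact Nat.find_spec hall (pow_smul_top_mono I (by omega) hk)
  choose f hf hf' using hsel
  exact ⟨f, fun n => (hg n).subset fun z hz h => hz (hf' z n h), hf⟩

/-- The comparison map `M ⊗ decaying(Z, A) → (Z → M)`. -/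
noncomputable def comparison (I : Ideal A) (Z : Type v) (M : Type w) [AddCommGroup M] [Module A M] :
    M ⊗[A] decaying I Z A →ₗ[A] (Z → M) :=
  (TensorProduct.piScalarRightHom A A M Z) ∘ₗ ((decaying I Z A).subtype.lTensor M)

omit [IsNoetherianRing A] [IsAdicComplete I A] in
theorem comparison_tmul {M : Type w} [AddCommGroup M] [Module A M] (x : M) (g : decaying I Z A) :
    comparison I Z M (x ⊗ₜ g) = fun z => (g : Z → A) z • x := by
  simp [comparison]

omit [IsNoetherianRing A] [IsAdicComplete I A] in
theorem comparison_natural {M : Type w} [AddCommGroup M] [Module A M] {N : Type*} [AddCommGroup N] [Module A N]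
    (φ : M →ₗ[A] N) (ξ : M ⊗[A] decaying I Z A) :
    comparison I Z N (φ.rTensor (decaying I Z A) ξ) = fun z => φ (comparison I Z M ξ z) := by
  induction ξ using TensorProduct.induction_on with
  | zero => simp; rfl
  | tmul x g => simp [comparison_tmul]
  | add a b ha hb => funext z; simp [map_add, ha, hb]

omit [IsNoetherianRing A] [IsAdicComplete I A] in
theorem comparison_mem {M : Type w} [AddCommGroup M] [Module A M] (ξ : M ⊗[A] decaying I Z A) :
    comparison I Z M ξ ∈ decaying I Z M := by
  induction ξ using TensorProduct.induction_on with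
  | zero => simp
  | tmul x g => rw [comparison_tmul]; exact smul_right_mem_decaying g.2 fun _ => x
  | add a b ha hb => rw [map_add]; exact Submodule.add_mem _ ha hb

omit [IsNoetherianRing A] [IsAdicComplete I A] in
theorem comparison_free_injective (r : ℕ) : Function.Injective (comparison I Z (Fin r → A)) := by
  classical
  rw [injective_iff_map_eq_zero]
  intro ξ hξ
  let p : Fin r → ((Fin r → A) ⊗[A] decaying I Z A →ₗ[A] decaying I Z A) := fun i =>
    (TensorProduct.lid A (decaying I Z A)).toLinearMap ∘ₗ
      (LinearMap.proj (R := A) (φ := fun _ : Fin r => A) i).rTensor (decaying I Z A)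
  have hp : ∀ i z, ((p i ξ : decaying I Z A) : Z → A) z = comparison I Z (Fin r → A) ξ z i := by
    intro i z
    clear hξ
    induction ξ using TensorProduct.induction_on with
    | zero => simp
    | tmul x g => simp [p, comparison_tmul, mul_comm]
    | add a b ha hb => simp [ha, hb]
  have hdec : ξ = ∑ i, (Pi.single i 1 : Fin r → A) ⊗ₜ[A] p i ξ := by
    clear hξ hp
    induction ξ using TensorProduct.induction_on with
    | zero => simp
    | tmul x g =>
      simp only [p, LinearMap.comp_apply, LinearMap.rTensor_tmul, LinearMap.proj_apply,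
        LinearEquiv.coe_coe, TensorProduct.lid_tmul, TensorProduct.tmul_smul, TensorProduct.smul_tmul']
      rw [← TensorProduct.sum_tmul]
      congr 1
      funext j
      simp [Pi.single_apply]
    | add a b ha hb =>
      simp only [map_add, TensorProduct.tmul_add, Finset.sum_add_distrib, ← ha, ← hb]
  rw [hdec]
  refine Finset.sum_eq_zero fun i _ => ?_
  rw [show p i ξ = 0 from Subtype.ext (funext fun z => by rw [hp, hξ]; rfl), TensorProduct.tmul_zero]

omit [IsNoetherianRing A] [IsAdicComplete I A] in
theorem exists_comparison_free (r : ℕ) {f : Z → (Fin r → A)} (hf : f ∈ decaying I Z (Fin r → A)) :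
    ∃ ξ, comparison I Z (Fin r → A) ξ = f := by
  classical
  refine ⟨∑ i, (Pi.single i 1 : Fin r → A) ⊗ₜ[A] ⟨fun z => f z i,
    fun n => (hf n).subset fun z hz h => hz (map_mem_pow I (LinearMap.proj i) h)⟩, ?_⟩
  funext z j
  simp [map_sum, comparison_tmul, Finset.sum_apply, Pi.single_apply]

theorem exists_comparison {M : Type w} [AddCommGroup M] [Module A M] [Module.Finite A M]
    {f : Z → M} (hf : f ∈ decaying I Z M) : ∃ ξ, comparison I Z M ξ = f := by
  obtain ⟨r, v, hv⟩ := Module.Finite.exists_fin' A M
  obtain ⟨g, hg, hgf⟩ := exists_decaying_lift v hv f hf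
  obtain ⟨ξ, rfl⟩ := exists_comparison_free r hg
  exact ⟨v.rTensor _ ξ, by rw [comparison_natural]; exact funext hgf⟩

theorem range_comparison {M : Type w} [AddCommGroup M] [Module A M] [Module.Finite A M] :
    LinearMap.range (comparison I Z M) = decaying I Z M :=
  le_antisymm (LinearMap.range_le_iff_comap.mpr (eq_top_iff.mpr fun ξ _ => comparison_mem ξ))
    fun _ hf => exists_comparison hf

theorem comparison_injective {M : Type w} [AddCommGroup M] [Module A M] [Module.Finite A M] :
    Function.Injective (comparison I Z M) := by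
  rw [injective_iff_map_eq_zero]
  intro ξ hξ
  obtain ⟨r, v, hv⟩ := Module.Finite.exists_fin' A M
  obtain ⟨η, rfl⟩ := LinearMap.rTensor_surjective (decaying I Z A) hv ξ
  rw [comparison_natural] at hξ
  have hker : ∀ z, comparison I Z (Fin r → A) η z ∈ LinearMap.ker v := fun z => congrFun hξ z
  obtain ⟨θ, hθ⟩ := exists_comparison (M := LinearMap.ker v) (f := fun z => (⟨_, hker z⟩ : LinearMap.ker v))
    ((mem_decaying_submodule_iff _ _).mpr (comparison_mem η))
  have hη : (LinearMap.ker v).subtype.rTensor (decaying I Z A) θ = η := comparison_free_injective r <| by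
    rw [comparison_natural, hθ]
    rfl
  rw [← hη, ← LinearMap.comp_apply, ← LinearMap.rTensor_comp, show v ∘ₗ (LinearMap.ker v).subtype = 0 from
    LinearMap.ext fun x => x.2, LinearMap.rTensor_zero, LinearMap.zero_apply]

theorem flat_decaying (I : Ideal A) [IsAdicComplete I A] (Z : Type v) : Module.Flat A (decaying I Z A) := by
  rw [Module.Flat.iff_rTensor_injective']
  intro J
  refine fun a b hab => comparison_injective (funext fun z => Subtype.ext ?_)
  have := congrFun (congrArg (comparison I Z A) hab) z
  rwa [comparison_natural, comparison_natural] at this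

end Groth.Agent.Decay
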