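import Groth.Agent.Decay.Complete

set_option autoImplicit false
set_option linter.style.haveILetI false
universe u v w

namespace Groth.Agent.Decay

open W4c5adicflatcompl

variable {A : Type u} [CommRing A] {I : Ideal A} {Z : Type v} {M : Type w} [AddCommGroup M] [Module A M]

theorem finsupp_mem_pow {n : ℕ} {g : Z →₀ M} (h : ∀ z, g z ∈ (I ^ n • ⊤ : Submodule A M)) :
    g ∈ (I ^ n • ⊤ : Submodule A (Z →₀ M)) := by
  rw [← g.sum_single]
  exact Submodule.sum_mem _ fun z _ => map_mem_pow I (Finsupp.lsingle z) (h z)

/-- Coordinates of an element of the completion of `Z →₀ M`. -/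
noncomputable def coords (I : Ideal A) (Z : Type v) (M : Type w) [AddCommGroup M] [Module A M] :
    AdicCompletion I (Z →₀ M) →ₗ[A] (Z → AdicCompletion I M) :=
  LinearMap.pi fun z : Z => (AdicCompletion.map I (Finsupp.lapply (M := M) (R := A) z)).restrictScalars A

theorem coords_val (x : AdicCompletion I (Z →₀ M)) (z : Z) (n : ℕ) {g : Z →₀ M}
    (hg : x.val n = Submodule.Quotient.mk g) : (coords I Z M x z).val n = Submodule.Quotient.mk (g z) := by
  show (AdicCompletion.map I (Finsupp.lapply (M := M) (R := A) z) x).val n = _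
  rw [AdicCompletion.map_val_apply, hg]
  rfl

theorem coords_injective : Function.Injective (coords I Z M) := by
  rw [injective_iff_map_eq_zero]
  intro x hx
  refine AdicCompletion.ext fun n => ?_
  obtain ⟨g, hg⟩ := Submodule.Quotient.mk_surjective _ (x.val n)
  rw [AdicCompletion.val_zero_apply, ← hg, Submodule.Quotient.mk_eq_zero]
  refine finsupp_mem_pow fun z => ?_
  rw [← Submodule.Quotient.mk_eq_zero, ← coords_val x z n hg.symm, hx]
  rfl

theorem range_coords [IsAdicComplete I (AdicCompletion I M)] :
    LinearMap.range (coords I Z M) = decaying I Z (AdicCompletion I M) := by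
  classical
  refine le_antisymm ?_ fun f hf => ?_
  · rintro _ ⟨x, rfl⟩ n
    obtain ⟨g, hg⟩ := Submodule.Quotient.mk_surjective _ (x.val n)
    refine g.support.finite_toSet.subset fun z hz => ?_
    by_contra hgz
    refine hz ((mem_pow_smul_iff n _).mpr ?_)
    rw [coords_val x z n hg.symm, Finsupp.notMem_support_iff.mp hgz, Submodule.Quotient.mk_zero]
  · choose b hb using fun (z : Z) (n : ℕ) => Submodule.Quotient.mk_surjective _ ((f z).val n)
    let g : ℕ → (Z →₀ M) := fun n => Finsupp.onFinset (hf n).toFinset
      (fun z => if z ∈ (hf n).toFinset then b z n else 0) fun z hz => by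
        by_contra h; simp [h] at hz
    have hg : ∀ n z, Submodule.Quotient.mk (g n z) = (f z).val n := by
      intro n z
      by_cases hz : z ∈ (hf n).toFinset
      · simp only [g, Finsupp.onFinset_apply, if_pos hz, hb]
      · simp only [g, Finsupp.onFinset_apply, if_neg hz, Submodule.Quotient.mk_zero]
        rw [Set.Finite.mem_toFinset] at hz
        exact ((mem_pow_smul_iff n _).mp (not_not.mp hz)).symm
    have hcauchy : AdicCompletion.IsAdicCauchy I (Z →₀ M) g := fun {m n} hmn => SModEq.sub_mem.mpr <|
      finsupp_mem_pow fun z => by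
        rw [Finsupp.sub_apply, ← mk_eq_iff, hg, ← (f z).2 hmn, ← hg]
        rfl
    refine ⟨AdicCompletion.mk I (Z →₀ M) ⟨g, hcauchy⟩, funext fun z => AdicCompletion.ext fun n => ?_⟩
    rw [coords_val _ z n (g := g n) rfl, hg]

end Groth.Agent.Decay
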