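import Groth.Agent.Decay.System

set_option autoImplicit false
set_option linter.style.haveILetI false
universe u v w

namespace Groth.Agent.Decay

open W4c5adicflatcompl

theorem isAdicComplete_congr {A : Type u} [CommRing A] (I : Ideal A) {M : Type v} [AddCommGroup M] [Module A M]
    {N : Type w} [AddCommGroup N] [Module A N] (e : M ≃ₗ[A] N) [IsAdicComplete I N] : IsAdicComplete I M :=
  isAdicComplete_of_retract e.toLinearMap e.symm.toLinearMap (LinearMap.ext fun x => e.symm_apply_apply x)

theorem isAdicFree_congr {A : Type u} [CommRing A] (I : Ideal A) {M N : Type u} [AddCommGroup M] [Module A M]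
    [AddCommGroup N] [Module A N] (e : M ≃ₗ[A] N) (h : IsAdicFree I N) : IsAdicFree I M := by
  obtain ⟨Z, ⟨f⟩⟩ := h
  exact ⟨Z, ⟨e.trans f⟩⟩

theorem isAdicFree_iff {A : Type u} [CommRing A] [IsNoetherianRing A] [IsLocalRing A]
    [IsAdicComplete (IsLocalRing.maximalIdeal A) A] (M : Type u) [AddCommGroup M] [Module A M] :
    IsAdicFree (IsLocalRing.maximalIdeal A) M ↔
      Module.Flat A M ∧ IsAdicComplete (IsLocalRing.maximalIdeal A) M := by
  constructor
  · rintro ⟨Z, ⟨e⟩⟩
    let e' := e.trans (decayingCongr (IsLocalRing.maximalIdeal A) (AdicCompletion.ofLinearEquiv (IsLocalRing.maximalIdeal A) A)).symm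
    haveI := flat_decaying (IsLocalRing.maximalIdeal A) Z
    haveI : IsAdicComplete (IsLocalRing.maximalIdeal A) (decaying (IsLocalRing.maximalIdeal A) Z A) :=
      isAdicComplete_decaying (fg _)
    exact ⟨Module.Flat.of_linearEquiv e', isAdicComplete_congr _ e'⟩
  · rintro ⟨hflat, hM⟩
    haveI := hM
    let Q : ℕ → Type u := fun n => M ⧸ (IsLocalRing.maximalIdeal A ^ (n + 1) • ⊤ : Submodule A M)
    haveI : ∀ n, Module.Flat (A ⧸ IsLocalRing.maximalIdeal A ^ (n + 1)) (Q n) := fun n =>
      Module.Flat.of_linearEquiv (R := A ⧸ IsLocalRing.maximalIdeal A ^ (n + 1))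
        (LinearEquiv.extendScalarsOfSurjective Ideal.Quotient.mk_surjective
          (TensorProduct.quotTensorEquivQuotSMul M (IsLocalRing.maximalIdeal A ^ (n + 1)))).symm
    let ψ : ∀ n, Q (n + 1) →ₗ[A] Q n := fun n => Submodule.factorPow (IsLocalRing.maximalIdeal A) M (Nat.le_succ (n + 1))
    have hle : ∀ n, (IsLocalRing.maximalIdeal A ^ (n + 1 + 1) • ⊤ : Submodule A M) ≤ IsLocalRing.maximalIdeal A ^ (n + 1) • ⊤ :=
      fun n => pow_smul_top_mono _ (Nat.le_succ _)
    have hψ : ∀ n, Function.Surjective (ψ n) := fun n => Submodule.factor_surjective (hle n)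
    have hker : ∀ n, LinearMap.ker (ψ n) =
        (IsLocalRing.maximalIdeal A ^ (n + 1) • ⊤ : Submodule A (Q (n + 1))) := fun n => by
      rw [← Submodule.range_mkQ (IsLocalRing.maximalIdeal A ^ (n + 1 + 1) • ⊤ : Submodule A M), ← Submodule.map_top,
        ← Submodule.map_smul'']
      exact Submodule.ker_mapQ _ _ _ _
    refine isAdicFree_congr _ ?_ (isAdicFree_sysLim Q ψ hψ hker).1
    refine LinearEquiv.ofBijective ((LinearMap.pi fun n => (Submodule.mkQ _ : M →ₗ[A] Q n)).codRestrict (sysLim Q ψ) fun x n => rfl) ⟨?_, ?_⟩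
    · refine (injective_iff_map_eq_zero _).mpr fun x hx =>
        eq_zero_of_forall_mem (IsLocalRing.maximalIdeal A) fun k => pow_smul_top_mono _ (Nat.le_succ k) ?_
      exact (Submodule.Quotient.mk_eq_zero _).mp (congrFun (congrArg Subtype.val hx) k)
    · rintro ⟨y, hy⟩
      choose a ha using fun n => Submodule.Quotient.mk_surjective _ (y n)
      have hcauchy : ∀ n, a (n + 1) - a n ∈ (IsLocalRing.maximalIdeal A ^ (n + 1) • ⊤ : Submodule A M) := fun n => by
        rw [← mk_eq_iff, ha n, ← hy n, ← ha (n + 1)]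
        rfl
      obtain ⟨L, hL⟩ := IsPrecomplete.prec (inferInstance : IsPrecomplete (IsLocalRing.maximalIdeal A) M) (f := a)
        fun {m n} hmn => by
          induction n, hmn using Nat.le_induction with
          | base => rfl
          | succ n hmn ih =>
            refine ih.trans (SModEq.sub_mem.mpr ?_)
            rw [← neg_sub]
            exact Submodule.neg_mem _ (pow_smul_top_mono _ (Nat.le_succ_of_le hmn) (hcauchy n))
      refine ⟨L, Subtype.ext (funext fun n => ?_)⟩
      show Submodule.Quotient.mk L = y n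
      rw [← ha n, mk_eq_iff]
      have h2 := Submodule.sub_mem _ (hcauchy n) (SModEq.sub_mem.mp (hL (n + 1)))
      simpa using h2

end Groth.Agent.Decay
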