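import Groth.Agent.Decay.Universal
import Groth.Agent.Decay.FinModule

set_option autoImplicit false
set_option linter.style.haveILetI false
universe u

namespace Groth.Agent.Decay

open W4c5adicflatcompl TensorProduct

/-- A flat module over a local ring with nilpotent maximal ideal is free on any lift of a residual basis. -/
theorem linearCombination_bijective_of_nilpotent {R : Type u} [CommRing R] [IsLocalRing R] {M : Type u}
    [AddCommGroup M] [Module R M] [Module.Flat R M] {k : ℕ} (hk : IsLocalRing.maximalIdeal R ^ k = ⊥)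
    {ι : Type u} (v : ι → M)
    (hsp : Submodule.span R (Set.range v) ⊔ IsLocalRing.maximalIdeal R • ⊤ = ⊤)
    (hind : ∀ c : ι →₀ R, Finsupp.linearCombination R v c ∈ (IsLocalRing.maximalIdeal R • ⊤ : Submodule R M) →
      ∀ i, c i ∈ IsLocalRing.maximalIdeal R) :
    Function.Bijective (Finsupp.linearCombination R v) := by
  classical
  constructor
  · refine Module.IsLocalRing.linearIndependent_of_flat v ?_
    rw [linearIndependent_iff']
    intro s g hg i hi
    choose a ha using fun j => IsLocalRing.residue_surjective (g j)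
    have h0 : TensorProduct.mk R (IsLocalRing.ResidueField R) M 1 (∑ j ∈ s, a j • v j) = 0 := by
      rw [← hg, map_sum]
      refine Finset.sum_congr rfl fun j _ => ?_
      rw [map_smul, ← ha j]
      exact (algebraMap_smul (IsLocalRing.ResidueField R) (a j) _).symm
    have h1 : (∑ j ∈ s, a j • v j) ∈ (IsLocalRing.maximalIdeal R • ⊤ : Submodule R M) := by
      rw [← LinearMap.ker_tensorProductMk]; exact LinearMap.mem_ker.mpr h0
    let c : ι →₀ R := Finsupp.onFinset s (fun j => if j ∈ s then a j else 0) fun j hj => by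
      by_contra h; simp [h] at hj
    have hc : Finsupp.linearCombination R v c = ∑ j ∈ s, a j • v j := by
      rw [Finsupp.linearCombination_apply, Finsupp.sum_of_support_subset _ Finsupp.support_onFinset_subset _ (by simp)]
      exact Finset.sum_congr rfl fun j hj => by simp [c, hj]
    have h2 := hind c (hc ▸ h1) i
    simp only [c, Finsupp.onFinset_apply, if_pos hi] at h2
    rw [← ha i]
    exact Ideal.Quotient.eq_zero_iff_mem.mpr h2
  · rw [← LinearMap.range_eq_top, Finsupp.range_linearCombination]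
    have h : ∀ j : ℕ, Submodule.span R (Set.range v) ⊔ IsLocalRing.maximalIdeal R ^ j • ⊤ = ⊤ := by
      intro j
      induction j with
      | zero => simp
      | succ j ih =>
        refine eq_top_iff.mpr (ih.ge.trans (sup_le le_sup_left ?_))
        conv_lhs => rw [← hsp, Submodule.smul_sup, ← Submodule.mul_smul, ← pow_succ]
        exact sup_le_sup_right Submodule.smul_le_right _
    simpa [hk] using h k

theorem isAdicFree_sysLim {A : Type u} [CommRing A] [IsNoetherianRing A] [IsLocalRing A]
    [IsAdicComplete (IsLocalRing.maximalIdeal A) A]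
    (M : ℕ → Type u) [∀ n, AddCommGroup (M n)] [∀ n, Module A (M n)]
    [∀ n, Module (A ⧸ IsLocalRing.maximalIdeal A ^ (n + 1)) (M n)]
    [∀ n, IsScalarTower A (A ⧸ IsLocalRing.maximalIdeal A ^ (n + 1)) (M n)]
    [∀ n, Module.Flat (A ⧸ IsLocalRing.maximalIdeal A ^ (n + 1)) (M n)]
    (ψ : ∀ n, M (n + 1) →ₗ[A] M n) (hψ : ∀ n, Function.Surjective (ψ n))
    (hker : ∀ n, LinearMap.ker (ψ n) =
      (IsLocalRing.maximalIdeal A ^ (n + 1) • ⊤ : Submodule A (M (n + 1)))) :
    IsAdicFree (IsLocalRing.maximalIdeal A) (sysLim M ψ) ∧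
      ∀ n, Function.Surjective (sysProj M ψ n) ∧
        LinearMap.ker (sysProj M ψ n) =
          (IsLocalRing.maximalIdeal A ^ (n + 1) • ⊤ : Submodule A (sysLim M ψ)) := by
  classical
  let p : ∀ n, M n →ₗ[A] M 0 := fun n => Nat.rec LinearMap.id (fun k q => q ∘ₗ ψ k) n
  have hp : ∀ n, Function.Surjective (p n) ∧ LinearMap.ker (p n) = (IsLocalRing.maximalIdeal A) • (⊤ : Submodule A (M n)) := by
    intro n
    induction n with
    | zero =>
      refine ⟨Function.surjective_id, (LinearMap.ker_id).trans (le_antisymm bot_le ?_)⟩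
      rw [Submodule.smul_le]
      intro a ha x _
      rw [Submodule.mem_bot, ← algebraMap_smul (A ⧸ (IsLocalRing.maximalIdeal A) ^ (0 + 1)) a x, Ideal.Quotient.algebraMap_eq,
        Ideal.Quotient.eq_zero_iff_mem.mpr (by simpa using ha), zero_smul]
    | succ n ih =>
      refine ⟨ih.1.comp (hψ n), ?_⟩
      show LinearMap.ker (p n ∘ₗ ψ n) = _
      rw [LinearMap.ker_comp, ih.2, show (IsLocalRing.maximalIdeal A) • (⊤ : Submodule A (M n)) = Submodule.map (ψ n) ((IsLocalRing.maximalIdeal A) • ⊤) by
        rw [Submodule.map_smul'', Submodule.map_top, LinearMap.range_eq_top.mpr (hψ n)], Submodule.comap_map_eq,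
        hker, sup_eq_left]
      exact Submodule.smul_mono_left (Ideal.pow_le_self (Nat.succ_ne_zero n))
  haveI hmax : ((IsLocalRing.maximalIdeal A) ^ (0 + 1)).IsMaximal := by rw [zero_add, pow_one]; infer_instance
  letI : Field (A ⧸ (IsLocalRing.maximalIdeal A) ^ (0 + 1)) := Ideal.Quotient.field _
  obtain ⟨⟨Z, b⟩⟩ := Module.Free.exists_basis (R := A ⧸ (IsLocalRing.maximalIdeal A) ^ (0 + 1)) (M := M 0)
  choose s hs using hψ
  let x : Z → ∀ n, M n := fun z n => Nat.rec (b z) (fun k y => s k y) n
  have hx : ∀ z, x z ∈ sysLim M ψ := fun z n => hs n _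
  have hxp : ∀ z n, p n (x z n) = b z := by
    intro z n
    induction n with
    | zero => rfl
    | succ n ih => show p n (ψ n (x z (n + 1))) = _; rw [hx z n]; exact ih
  have hbij : ∀ n, Function.Bijective (Finsupp.linearCombination (A ⧸ (IsLocalRing.maximalIdeal A) ^ (n + 1)) fun z => x z n) := by
    intro n
    have hne : (IsLocalRing.maximalIdeal A) ^ (n + 1) ≠ ⊤ := fun h =>
      (IsLocalRing.maximalIdeal.isMaximal A).ne_top (top_unique (h.ge.trans (Ideal.pow_le_self (Nat.succ_ne_zero n))))
    haveI : Nontrivial (A ⧸ (IsLocalRing.maximalIdeal A) ^ (n + 1)) := Ideal.Quotient.nontrivial_iff.mpr hne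
    haveI : IsLocalRing (A ⧸ (IsLocalRing.maximalIdeal A) ^ (n + 1)) := IsLocalRing.of_surjective' _ Ideal.Quotient.mk_surjective
    have hmq : IsLocalRing.maximalIdeal (A ⧸ (IsLocalRing.maximalIdeal A) ^ (n + 1)) = (IsLocalRing.maximalIdeal A).map (Ideal.Quotient.mk ((IsLocalRing.maximalIdeal A) ^ (n + 1))) :=
      (IsLocalRing.map_maximalIdeal_of_surjective _ Ideal.Quotient.mk_surjective).symm
    have hsm : (IsLocalRing.maximalIdeal (A ⧸ (IsLocalRing.maximalIdeal A) ^ (n + 1)) • ⊤ : Submodule (A ⧸ (IsLocalRing.maximalIdeal A) ^ (n + 1)) (M n)).restrictScalars A =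
        LinearMap.ker (p n) := by
      rw [hmq, ← Ideal.Quotient.algebraMap_eq, Ideal.smul_restrictScalars, Submodule.restrictScalars_top, (hp n).2]
    refine linearCombination_bijective_of_nilpotent (k := n + 1) ?_ _ ?_ fun c hc i => ?_
    · rw [hmq, ← Ideal.map_pow, Ideal.map_quotient_self]
    · apply Submodule.restrictScalars_injective A
      rw [Submodule.restrictScalars_sup, hsm, Submodule.restrictScalars_top,
        Submodule.restrictScalars_span A (A ⧸ (IsLocalRing.maximalIdeal A) ^ (n + 1)) Ideal.Quotient.mk_surjective, eq_top_iff]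
      intro y _
      have hy : p n y ∈ Submodule.map (p n) (Submodule.span A (Set.range fun z => x z n)) := by
        rw [Submodule.map_span, ← Set.range_comp, show (p n ∘ fun z => x z n) = b from funext fun z => hxp z n,
          ← Submodule.restrictScalars_span A (A ⧸ (IsLocalRing.maximalIdeal A) ^ (0 + 1)) Ideal.Quotient.mk_surjective, b.span_eq]
        trivial
      obtain ⟨w, hw, hwy⟩ := hy
      exact Submodule.mem_sup.mpr ⟨w, hw, y - w, by rw [LinearMap.mem_ker, map_sub, hwy, sub_self], add_sub_cancel _ _⟩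
    · have h0 : p n (Finsupp.linearCombination (A ⧸ (IsLocalRing.maximalIdeal A) ^ (n + 1)) (fun z => x z n) c) = 0 :=
        LinearMap.mem_ker.mp (hsm ▸ hc)
      choose a ha using fun z => Ideal.Quotient.mk_surjective (c z)
      rw [Finsupp.linearCombination_apply, Finsupp.sum, map_sum] at h0
      have h1 : ∑ z ∈ c.support, (Ideal.Quotient.mk ((IsLocalRing.maximalIdeal A) ^ (0 + 1)) (a z)) • b z = 0 := by
        rw [← h0]
        refine Finset.sum_congr rfl fun z _ => ?_
        rw [← ha z, ← Ideal.Quotient.algebraMap_eq, ← Ideal.Quotient.algebraMap_eq, algebraMap_smul, algebraMap_smul,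
          map_smul, hxp]
      by_cases hi : i ∈ c.support
      · have := linearIndependent_iff'.mp b.linearIndependent _ _ h1 i hi
        rw [hmq, ← ha i]
        exact Ideal.mem_map_of_mem _ (by simpa using Ideal.Quotient.eq_zero_iff_mem.mp this)
      · simp [Finsupp.notMem_support_iff.mp hi]
  obtain ⟨Φ, hΦ⟩ : ∃ Φ : decaying (IsLocalRing.maximalIdeal A) Z A →ₗ[A] sysLim M ψ, ∀ (g : decaying (IsLocalRing.maximalIdeal A) Z A) n,
      ∀ S : Finset Z, (∀ z, z ∉ S → (g : Z → A) z ∈ (IsLocalRing.maximalIdeal A) ^ (n + 1)) →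
        (Φ g : ∀ n, M n) n = ∑ z ∈ S, (g : Z → A) z • x z n := by
    have hkill : ∀ n (a : A) (y : M n), a ∈ (IsLocalRing.maximalIdeal A) ^ (n + 1) → a • y = 0 := fun n a y ha => by
      rw [← algebraMap_smul (A ⧸ (IsLocalRing.maximalIdeal A) ^ (n + 1)) a y, Ideal.Quotient.algebraMap_eq,
        Ideal.Quotient.eq_zero_iff_mem.mpr ha, zero_smul]
    let T : decaying (IsLocalRing.maximalIdeal A) Z A → ∀ n, Finset Z := fun g n => (g.2 (n + 1)).toFinset
    have hT : ∀ g n z, z ∉ T g n → (g : Z → A) z ∈ (IsLocalRing.maximalIdeal A) ^ (n + 1) := fun g n z hz => by simpa [T] using hz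
    let F : decaying (IsLocalRing.maximalIdeal A) Z A → ∀ n, M n := fun g n => ∑ z ∈ T g n, (g : Z → A) z • x z n
    have hFS : ∀ (g : decaying (IsLocalRing.maximalIdeal A) Z A) n (S : Finset Z), (∀ z, z ∉ S → (g : Z → A) z ∈ (IsLocalRing.maximalIdeal A) ^ (n + 1)) →
        F g n = ∑ z ∈ S, (g : Z → A) z • x z n := fun g n S hS => by
      refine (Finset.sum_subset Finset.subset_union_left fun z _ hz => hkill _ _ _ (hT g n z hz)).trans
        (Finset.sum_subset (Finset.subset_union_right (s₁ := T g n)) fun z _ hz => hkill _ _ _ (hS z hz)).symm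
    refine ⟨{ toFun := fun g => ⟨F g, fun n => ?_⟩, map_add' := fun g g' => Subtype.ext (funext fun n => ?_),
              map_smul' := fun r g => Subtype.ext (funext fun n => ?_) }, fun g n S hS => hFS g n S hS⟩
    · show ψ n (F g (n + 1)) = F g n
      rw [hFS g n (T g (n + 1)) fun z hz => Ideal.pow_le_pow_right (Nat.le_succ _) (hT g (n + 1) z hz)]
      simp only [F, map_sum, map_smul]
      exact Finset.sum_congr rfl fun z _ => by rw [hx z n]
    · show F (g + g') n = F g n + F g' n
      have hg : ∀ z, z ∉ T g n ∪ T g' n → (g : Z → A) z ∈ (IsLocalRing.maximalIdeal A) ^ (n + 1) := fun z hz => hT g n z (by simp_all)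
      have hg' : ∀ z, z ∉ T g n ∪ T g' n → (g' : Z → A) z ∈ (IsLocalRing.maximalIdeal A) ^ (n + 1) := fun z hz => hT g' n z (by simp_all)
      rw [hFS g n _ hg, hFS g' n _ hg', hFS (g + g') n (T g n ∪ T g' n) fun z hz => Ideal.add_mem _ (hg z hz) (hg' z hz),
        ← Finset.sum_add_distrib]
      exact Finset.sum_congr rfl fun z _ => add_smul ((g : Z → A) z) _ _
    · show F (r • g) n = r • F g n
      rw [hFS (r • g) n (T g n) fun z hz => Ideal.mul_mem_left _ r (hT g n z hz)]
      simp only [F, Finset.smul_sum]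
      exact Finset.sum_congr rfl fun z _ => mul_smul r _ _
  have hcoeff : ∀ (g : decaying (IsLocalRing.maximalIdeal A) Z A) n, (Φ g : ∀ n, M n) n = 0 → ∀ z, (g : Z → A) z ∈ (IsLocalRing.maximalIdeal A) ^ (n + 1) := by
    intro g n hg z
    let S := (g.2 (n + 1)).toFinset
    have hS : ∀ w, w ∉ S → (g : Z → A) w ∈ (IsLocalRing.maximalIdeal A) ^ (n + 1) := fun w hw => by simpa [S] using hw
    rw [hΦ g n S hS] at hg
    by_cases hz : z ∈ S
    · have := linearIndependent_iff'.mp (hbij n).1 S (fun w => Ideal.Quotient.mk ((IsLocalRing.maximalIdeal A) ^ (n + 1)) ((g : Z → A) w))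
        (by simpa [← Ideal.Quotient.algebraMap_eq, algebraMap_smul] using hg) z hz
      exact Ideal.Quotient.eq_zero_iff_mem.mp this
    · exact hS z hz
  have hinj : Function.Injective Φ := (injective_iff_map_eq_zero Φ).mpr fun g hg => Subtype.ext <| funext fun z => by
    refine eq_zero_of_forall_mem (IsLocalRing.maximalIdeal A) fun k => pow_smul_top_mono (IsLocalRing.maximalIdeal A) (Nat.le_succ k) ?_
    simpa using hcoeff g k (by rw [hg]; rfl) z
  have hsurj : Function.Surjective Φ := by
    intro y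
    choose c hc using fun n => (hbij n).2 ((y : ∀ n, M n) n)
    choose a ha using fun n z => Ideal.Quotient.mk_surjective (c n z)
    have hcomp : ∀ n z, a (n + 1) z - a n z ∈ (IsLocalRing.maximalIdeal A) ^ (n + 1) := by
      intro n z
      let S := insert z ((c n).support ∪ (c (n + 1)).support)
      have h1 : ∀ k, (c k).support ⊆ S → ∑ w ∈ S, a k w • x w k = (y : ∀ n, M n) k := fun k hk => by
        rw [← hc k, Finsupp.linearCombination_apply, Finsupp.sum_of_support_subset _ hk _ (by simp)]
        exact Finset.sum_congr rfl fun w _ => by rw [← ha k w, ← Ideal.Quotient.algebraMap_eq, algebraMap_smul]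
      have h2 : ∑ w ∈ S, a (n + 1) w • x w n = (y : ∀ n, M n) n := by
        rw [← y.2 n, ← h1 (n + 1) fun w hw => by simp [S, hw], map_sum]
        exact Finset.sum_congr rfl fun w _ => by rw [map_smul, hx w n]
      rw [← h1 n fun w hw => by simp [S, hw], ← sub_eq_zero, ← Finset.sum_sub_distrib] at h2
      have := linearIndependent_iff'.mp (hbij n).1 S (fun w => Ideal.Quotient.mk ((IsLocalRing.maximalIdeal A) ^ (n + 1)) (a (n + 1) w - a n w))
        (by simpa [← Ideal.Quotient.algebraMap_eq, ← map_sub, algebraMap_smul, sub_smul] using h2) z (by simp [S])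
      exact Ideal.Quotient.eq_zero_iff_mem.mp this
    have hL : ∀ z, ∃ L : A, ∀ n, a n z - L ∈ (IsLocalRing.maximalIdeal A) ^ (n + 1) := fun z => by
      obtain ⟨L, hL⟩ := IsPrecomplete.prec (inferInstance : IsPrecomplete (IsLocalRing.maximalIdeal A) A) (f := fun n => a n z) fun {m n} hmn => by
        induction n, hmn using Nat.le_induction with
        | base => rfl
        | succ n hmn ih =>
          refine ih.trans (SModEq.sub_mem.mpr ?_)
          rw [← neg_sub]
          exact Submodule.neg_mem _ (pow_smul_top_mono (IsLocalRing.maximalIdeal A) (Nat.le_succ_of_le hmn) (by simpa using hcomp n z))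
      refine ⟨L, fun n => ?_⟩
      have h2 : a (n + 1) z - L ∈ (IsLocalRing.maximalIdeal A) ^ (n + 1) := by simpa using SModEq.sub_mem.mp (hL (n + 1))
      simpa using Ideal.sub_mem _ h2 (hcomp n z)
    choose L hL using hL
    have hsmall : ∀ n z, z ∉ (c n).support → L z ∈ (IsLocalRing.maximalIdeal A) ^ (n + 1) := fun n z hz => by
      have : a n z ∈ (IsLocalRing.maximalIdeal A) ^ (n + 1) := Ideal.Quotient.eq_zero_iff_mem.mp (by rw [ha, Finsupp.notMem_support_iff.mp hz])
      simpa using Ideal.sub_mem _ this (hL z n)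
    refine ⟨⟨L, fun n => (c n).support.finite_toSet.subset fun z hz => ?_⟩, Subtype.ext (funext fun n => ?_)⟩
    · by_contra hzc
      exact hz (pow_smul_top_mono (IsLocalRing.maximalIdeal A) (Nat.le_succ n) (by simpa using hsmall n z hzc))
    · rw [hΦ _ n _ (hsmall n), ← hc n, Finsupp.linearCombination_apply, Finsupp.sum]
      refine Finset.sum_congr rfl fun z _ => ?_
      rw [← ha n z, show Ideal.Quotient.mk ((IsLocalRing.maximalIdeal A) ^ (n + 1)) (a n z) = Ideal.Quotient.mk ((IsLocalRing.maximalIdeal A) ^ (n + 1)) (L z) from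
        Ideal.Quotient.eq.mpr (hL z n), ← Ideal.Quotient.algebraMap_eq, algebraMap_smul]
  let e : sysLim M ψ ≃ₗ[A] decaying (IsLocalRing.maximalIdeal A) Z A := (LinearEquiv.ofBijective Φ ⟨hinj, hsurj⟩).symm
  refine ⟨⟨Z, ⟨e.trans (decayingCongr (IsLocalRing.maximalIdeal A) (AdicCompletion.ofLinearEquiv (IsLocalRing.maximalIdeal A) A))⟩⟩,
    fun n => ⟨?_, le_antisymm ?_ ?_⟩⟩
  · intro w
    obtain ⟨c, hc⟩ := (hbij n).2 w
    choose a ha using fun z => Ideal.Quotient.mk_surjective (c z)
    refine ⟨Φ (∑ z ∈ c.support, a z • single (IsLocalRing.maximalIdeal A) z 1), ?_⟩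
    have hval : ∀ z, ((∑ z ∈ c.support, a z • single (IsLocalRing.maximalIdeal A) z 1 : decaying (IsLocalRing.maximalIdeal A) Z A) : Z → A) z =
        if z ∈ c.support then a z else 0 := fun z => by simp [Finset.sum_apply, Pi.single_apply]
    rw [sysProj_apply, hΦ _ n c.support fun z hz => by rw [hval, if_neg hz]; exact Ideal.zero_mem _, ← hc,
      Finsupp.linearCombination_apply, Finsupp.sum]
    exact Finset.sum_congr rfl fun z hz => by
      rw [hval, if_pos hz, ← ha z, ← Ideal.Quotient.algebraMap_eq, algebraMap_smul]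
  · intro y hy
    obtain ⟨g, rfl⟩ := hsurj y
    exact map_mem_pow (IsLocalRing.maximalIdeal A) Φ (mem_pow_smul_decaying (fg (IsLocalRing.maximalIdeal A)) (n + 1) fun z => by
      simpa using hcoeff g n (by simpa using hy) z)
  · rw [Submodule.smul_le]
    intro a ha y _
    rw [LinearMap.mem_ker, map_smul, ← algebraMap_smul (A ⧸ (IsLocalRing.maximalIdeal A) ^ (n + 1)) a, Ideal.Quotient.algebraMap_eq,
      Ideal.Quotient.eq_zero_iff_mem.mpr ha, zero_smul]

end Groth.Agent.Decay
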