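import Groth.Agent.Decay.Complete

set_option autoImplicit false
set_option linter.style.haveILetI false
universe u v w

namespace Groth.Agent.Decay

open W4c5adicflatcompl

variable {A : Type u} [CommRing A] [IsNoetherianRing A] {I : Ideal A} {Z : Type v}

theorem fg (I : Ideal A) : I.FG := (isNoetherianRing_iff_ideal_fg A).mp inferInstance I

instance isAdicComplete_completion (I : Ideal A) (M : Type w) [AddCommGroup M] [Module A M] :
    IsAdicComplete I (AdicCompletion I M) := AdicCompletion.isAdicComplete (fg I)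

/-- Two linear maps out of decaying functions into a separated module agreeing on the basis vectors are equal. -/
theorem hom_ext [DecidableEq Z] {M : Type w} [AddCommGroup M] [Module A M] [IsHausdorff I M]
    {φ φ' : decaying I Z (AdicCompletion I A) →ₗ[A] M}
    (h : ∀ z, φ (single I z (1 : AdicCompletion I A)) = φ' (single I z (1 : AdicCompletion I A))) : φ = φ' := by
  refine LinearMap.ext fun g => eq_of_forall_sub_mem I fun n => ?_
  choose a ha using fun z => exists_sub_of_mem n ((g : Z → AdicCompletion I A) z)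
  let S := (g.2 n).toFinset
  let g₀ : decaying I Z (AdicCompletion I A) := ∑ z ∈ S, a z • single I z (1 : AdicCompletion I A)
  have hg₀ : g - g₀ ∈ (I ^ n • ⊤ : Submodule A (decaying I Z (AdicCompletion I A))) := by
    refine mem_pow_smul_decaying (fg I) n fun z => ?_
    have h1 : (g₀ : Z → AdicCompletion I A) z = if z ∈ S then AdicCompletion.of I A (a z) else 0 := by
      have : ∀ b : A, AdicCompletion.of I A b = b • (1 : AdicCompletion I A) := fun b => by
        rw [show (1 : AdicCompletion I A) = AdicCompletion.of I A 1 from rfl, ← map_smul, smul_eq_mul, mul_one]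
      simp [g₀, Finset.sum_apply, Pi.single_apply, this]
    show (g : Z → AdicCompletion I A) z - (g₀ : Z → AdicCompletion I A) z ∈ _
    rw [h1]
    split_ifs with hz
    · exact ha z
    · simpa [S] using hz
  have heq : φ g₀ = φ' g₀ := by simp [g₀, map_sum, h]
  have h2 := map_mem_pow I φ hg₀
  have h3 := map_mem_pow I φ' hg₀
  rw [map_sub] at h2 h3
  simpa [heq] using Submodule.sub_mem _ h2 h3

theorem exists_hom [DecidableEq Z] {M : Type w} [AddCommGroup M] [Module A M] [IsAdicComplete I M] (f : Z → M) :
    ∃ φ : decaying I Z (AdicCompletion I A) →ₗ[A] M,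
      ∀ z, φ (single I z (1 : AdicCompletion I A)) = f z := by
  let q : ∀ (n : ℕ) (_ : Z), (A ⧸ (I ^ n • ⊤ : Submodule A A)) →ₗ[A] M ⧸ (I ^ n • ⊤ : Submodule A M) := fun n z =>
    Submodule.mapQ _ _ (LinearMap.toSpanSingleton A M (f z)) fun a ha => smul_mem_pow I ha (f z)
  let t : ∀ (n : ℕ) (_ : decaying I Z (AdicCompletion I A)) (_ : Z), M ⧸ (I ^ n • ⊤ : Submodule A M) := fun n g z =>
    q n z (((g : Z → AdicCompletion I A) z).val n)
  have hfin : ∀ n g, (Function.support (t n g)).Finite := fun n g => (g.2 n).subset fun z hz hmem => hz <| by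
    simp [t, (mem_pow_smul_iff n _).mp hmem]
  let L : ∀ n, decaying I Z (AdicCompletion I A) →ₗ[A] M ⧸ (I ^ n • ⊤ : Submodule A M) := fun n =>
    { toFun := fun g => ∑ᶠ z, t n g z
      map_add' := fun g g' => by
        rw [← finsum_add_distrib (hfin n g) (hfin n g')]
        exact finsum_congr fun z => by simp [t]
      map_smul' := fun r g => by
        rw [RingHom.id_apply, smul_finsum' r (hfin n g)]
        exact finsum_congr fun z => by simp [t, AdicCompletion.val_smul_apply] }
  have hL : ∀ {m n : ℕ} (hle : m ≤ n), Submodule.factorPow I M hle ∘ₗ L n = L m := fun {m n} hle => by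
    refine LinearMap.ext fun g => ?_
    show Submodule.factorPow I M hle (∑ᶠ z, t n g z) = ∑ᶠ z, t m g z
    rw [← LinearMap.toAddMonoidHom_coe, AddMonoidHom.map_finsum _ (hfin n g)]
    refine finsum_congr fun z => ?_
    simp only [LinearMap.toAddMonoidHom_coe, t]
    rw [← ((g : Z → AdicCompletion I A) z).2 hle]
    obtain ⟨b, hb⟩ := Submodule.Quotient.mk_surjective _ (((g : Z → AdicCompletion I A) z).val n)
    rw [← hb]
    rfl
  refine ⟨IsAdicComplete.lift I L hL, fun z => eq_of_forall_sub_mem I fun n => ?_⟩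
  rw [← Submodule.Quotient.eq, IsAdicComplete.mk_lift]
  show ∑ᶠ w, t n (single I z 1) w = _
  rw [finsum_eq_single _ z fun w hw => by simp [t, hw]]
  simp only [t, coe_single, Pi.single_eq_same]
  show Submodule.Quotient.mk ((1 : A) • f z) = _
  rw [one_smul]

theorem existsUnique_hom [DecidableEq Z] {M : Type w} [AddCommGroup M] [Module A M] [IsAdicComplete I M] (f : Z → M) :
    ∃! φ : decaying I Z (AdicCompletion I A) →ₗ[A] M,
      ∀ z, φ (single I z (1 : AdicCompletion I A)) = f z := by
  obtain ⟨φ, hφ⟩ := exists_hom (I := I) f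
  exact ⟨φ, hφ, fun φ' hφ' => hom_ext fun z => (hφ' z).trans (hφ z).symm⟩

omit [IsNoetherianRing A] in
theorem isAdicComplete_of_retract {P F : Type*} [AddCommGroup P] [Module A P] [AddCommGroup F] [Module A F]
    [IsAdicComplete I F] (i : P →ₗ[A] F) (r : F →ₗ[A] P) (hri : r ∘ₗ i = LinearMap.id) : IsAdicComplete I P :=
  have hl : Function.LeftInverse r i := LinearMap.congr_fun hri
  { haus' := fun x hx => hl.injective (by
      rw [map_zero]
      exact eq_zero_of_forall_mem I fun n => map_mem_pow I i (SModEq.zero.mp (hx n)))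
    prec' := fun f hf => by
      obtain ⟨L, hL⟩ := IsPrecomplete.prec (inferInstance : IsPrecomplete I F) (f := fun n => i (f n))
        fun {m n} hmn => SModEq.sub_mem.mpr <| by
          rw [← map_sub]; exact map_mem_pow I i (SModEq.sub_mem.mp (hf hmn))
      refine ⟨r L, fun n => SModEq.sub_mem.mpr ?_⟩
      have := map_mem_pow I r (SModEq.sub_mem.mp (hL n))
      rwa [map_sub, hl] at this }

theorem isAdicProjective_iff (P : Type u) [AddCommGroup P] [Module A P] :
    IsAdicProjective I P ↔ ∃ (Z : Type u) (i : P →ₗ[A] decaying I Z (AdicCompletion I A))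
      (r : decaying I Z (AdicCompletion I A) →ₗ[A] P), r ∘ₗ i = LinearMap.id := by
  classical
  constructor
  · rintro ⟨hP, hlift⟩
    haveI := hP
    obtain ⟨r, hr⟩ := exists_hom (I := I) (fun p : P => p)
    obtain ⟨i, hi⟩ := hlift (decaying I P (AdicCompletion I A)) P (isAdicComplete_decaying (fg I)) hP r
      (fun p => ⟨_, hr p⟩) LinearMap.id
    exact ⟨P, i, r, hi⟩
  · rintro ⟨Z, i, r, hri⟩
    haveI : IsAdicComplete I (decaying I Z (AdicCompletion I A)) := isAdicComplete_decaying (fg I)
    refine ⟨isAdicComplete_of_retract i r hri, fun M N _ _ _ _ hM hN φ hφ ψ => ?_⟩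
    haveI := hM
    haveI := hN
    choose s hs using fun z => hφ (ψ (r (single I z (1 : AdicCompletion I A))))
    obtain ⟨χ, hχ⟩ := exists_hom (I := I) s
    refine ⟨χ ∘ₗ i, ?_⟩
    rw [← LinearMap.comp_assoc, show φ ∘ₗ χ = ψ ∘ₗ r from hom_ext fun z => by simp [hχ, hs],
      LinearMap.comp_assoc, hri, LinearMap.comp_id]

end Groth.Agent.Decay
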